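import Groth.Agent.Lib.WedgePair27.Alg
import Groth.Agent.Lib.ExtPowX.SesSheaf
import Groth.Agent.Lib.LocFreeHom.Basic
import Groth.Agent.Lib.GenFlatBC9.TensorSec
import Groth.Agent.Lib.AffHom.Basic
import Groth.Agent.Lib.QCoh.Affine

/-!
# The sheaf Hom from an exterior power into the determinant
-/

set_option autoImplicit false
set_option maxHeartbeats 1600000
set_option linter.style.haveILetI false
set_option backward.isDefEq.respectTransparency false

universe u

open CategoryTheory CategoryTheory.Limits AlgebraicGeometry Opposite TopologicalSpace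
open GrothLib.InvExt (mres)
open GrothLib.FinCov (IsFrame)
open GrothLib.ExtPowX (wedge eta wRes)
open GrothLib.LocFreeHom (iHom T curry uncurry)
open GrothLib.GenFlatBC9 (tens tmulHom)
open scoped TensorProduct

noncomputable section

namespace GrothLib.WedgePair27

variable {X : Scheme.{u}}

theorem tMap_right_tmulSec (M : X.Modules) {N N' : X.Modules} (g : N ⟶ N') (W : X.Opens) (a : Γ(M, W)) (b : Γ(N, W)) :
    ((T M).map g).app W (OX.tmulSec M N W a b) = OX.tmulSec M N' W a (g.app W b) := by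
  rw [OX.tMap_right]
  exact OX.tmulSec_natural (𝟙 M) g W a b

theorem wRes_mu_id (E : X.Modules) {p q n : ℕ} (h : p + q = n) {U V : X.Opens} (hVU : V ≤ U)
    (t : (⋀[Γ(X, U)]^p Γ(E, U)) ⊗[Γ(X, U)] (⋀[Γ(X, U)]^q Γ(E, U))) :
    wRes E n hVU (ExtPowX.Ses.mu LinearMap.id h t) =
      ExtPowX.Ses.mu LinearMap.id h (ExtPowX.Ses.resW E E p q hVU t) := by
  let a : (⋀[Γ(X, U)]^p Γ(E, U)) ⊗[Γ(X, U)] (⋀[Γ(X, U)]^q Γ(E, U))
      →ₛₗ[(X.presheaf.map (homOfLE hVU).op).hom] ↥(⋀[Γ(X, V)]^n Γ(E, V)) :=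
    (wRes E n hVU).comp (ExtPowX.Ses.mu LinearMap.id h)
  let b : (⋀[Γ(X, U)]^p Γ(E, U)) ⊗[Γ(X, U)] (⋀[Γ(X, U)]^q Γ(E, U))
      →ₛₗ[(X.presheaf.map (homOfLE hVU).op).hom] ↥(⋀[Γ(X, V)]^n Γ(E, V)) :=
    (ExtPowX.Ses.mu (LinearMap.id : Γ(E, V) →ₗ[Γ(X, V)] Γ(E, V)) h).comp (ExtPowX.Ses.resW E E p q hVU)
  refine LinearMap.congr_fun (ExtPowX.Ses.ext_wedge_tensor (f := a) (g := b) fun v w => ?_) t
  simp only [a, b, LinearMap.comp_apply, ExtPowX.Ses.resW, TensorProduct.map_tmul, ExtPowX.wRes_ιMulti,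
    ExtPowX.Ses.mu_tmul_ιMulti]
  refine congrArg _ (funext fun i => ?_)
  subst h
  refine Fin.addCases (fun j => ?_) (fun j => ?_) i <;> simp

variable (E : X.Modules) (hE : FlatMod.IsFinLocFree E)

/-- The sections of an exterior power on an affine open. -/
def etaE (k : ℕ) {W : X.Opens} (hW : IsAffineOpen W) :
    ↥(⋀[Γ(X, W)]^k Γ(E, W)) ≃ₗ[Γ(X, W)] Γ(wedge E k, W) :=
  LinearEquiv.ofBijective _ (ExtPowX.bijective_eta_affine hE k hW)

theorem mres_etaE (k : ℕ) {U V : X.Opens} (hU : IsAffineOpen U) (hV : IsAffineOpen V) (h : V ≤ U)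
    (x : ↥(⋀[Γ(X, U)]^k Γ(E, U))) :
    mres (wedge E k) h (etaE E hE k hU x) = etaE E hE k hV (wRes E k h x) :=
  ExtPowX.mres_eta E k h x

variable {p q n : ℕ} (h : p + q = n)

include hE in
theorem isQCoh_wedge (k : ℕ) : (wedge E k).IsQuasicoherent :=
  (Euler.isCoh_of_isFinLocFree (ExtPowX.isFinLocFree_wedge hE k)).1

/-- The wedge pairing on sections of an affine open. -/
def secPair {W : X.Opens} (hW : IsAffineOpen W) :
    Γ(wedge E q, W) →ₗ[Γ(X, W)] Γ(wedge E p, W) →ₗ[Γ(X, W)] Γ(wedge E n, W) :=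
  LinearMap.mk₂ Γ(X, W) (fun b a => etaE E hE n hW (pair h ((etaE E hE q hW).symm b) ((etaE E hE p hW).symm a)))
    (fun b b' a => by simp only [map_add, LinearMap.add_apply])
    (fun c b a => by simp only [map_smul, LinearMap.smul_apply])
    (fun b a a' => by simp only [map_add])
    (fun c b a => by simp only [map_smul])

include hE h in
theorem exists_pairing : ∃ Φ : (T (wedge E p)).obj (wedge E q) ⟶ wedge E n,
    ∀ (W : X.affineOpens) (a : Γ(wedge E p, W.1)) (b : Γ(wedge E q, W.1)),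
      Φ.app W.1 (OX.tmulSec (wedge E p) (wedge E q) W.1 a b) = secPair E hE h W.2 b a := by
  haveI := isQCoh_wedge E hE p
  haveI := isQCoh_wedge E hE q
  let θ : ∀ W : X.affineOpens, Γ(wedge E p, W.1) ⊗[Γ(X, W.1)] Γ(wedge E q, W.1) ≃ₗ[Γ(X, W.1)]
      Γ(tens (wedge E p) (wedge E q), W.1) :=
    fun W => LinearEquiv.ofBijective _ (GenFlatBC9.bijective_tmulHom (wedge E p) (wedge E q) W.2)
  obtain ⟨Φ, hΦ⟩ := AffHom.exists_hom (M := tens (wedge E p) (wedge E q)) (N := wedge E n)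
    (fun W => (TensorProduct.lift (secPair E hE h W.2).flip).comp (θ W).symm.toLinearMap) (fun U V hVU m => by
      obtain ⟨t, rfl⟩ := (θ U).surjective m
      simp only [LinearMap.comp_apply, LinearEquiv.coe_coe, LinearEquiv.symm_apply_apply]
      induction t using TensorProduct.induction_on with
      | zero => simp
      | add a b ha hb => simp only [map_add, ha, hb]
      | tmul a b =>
        have h1 : (tens (wedge E p) (wedge E q)).presheaf.map (homOfLE hVU).op (θ U (a ⊗ₜ b)) =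
            θ V (mres (wedge E p) hVU a ⊗ₜ mres (wedge E q) hVU b) :=
          GenFlatBC9.res_tmulSec (wedge E p) (wedge E q) hVU a b
        rw [h1, LinearEquiv.symm_apply_apply, TensorProduct.lift.tmul, TensorProduct.lift.tmul,
          LinearMap.flip_apply, LinearMap.flip_apply]
        obtain ⟨x, rfl⟩ := (etaE E hE p U.2).surjective a
        obtain ⟨y, rfl⟩ := (etaE E hE q U.2).surjective b
        rw [mres_etaE E hE p U.2 V.2, mres_etaE E hE q U.2 V.2]
        simp only [secPair, LinearMap.mk₂_apply, LinearEquiv.symm_apply_apply]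
        refine (mres_etaE E hE n U.2 V.2 hVU _).trans ?_
        exact congrArg _ (wRes_mu_id E h hVU (x ⊗ₜ y)))
  refine ⟨Φ, fun W a b => ?_⟩
  refine (hΦ W _).trans ?_
  show TensorProduct.lift (secPair E hE h W.2).flip ((θ W).symm (θ W (a ⊗ₜ b))) = _
  rw [LinearEquiv.symm_apply_apply, TensorProduct.lift.tmul, LinearMap.flip_apply]

theorem card_powersetCard (k m : ℕ) : Fintype.card (Set.powersetCard (Fin m) k) = m.choose k := by
  rw [← Nat.card_eq_fintype_card, Set.powersetCard.card, Nat.card_eq_fintype_card, Fintype.card_fin]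

theorem iso_freeMod_rank {U : X.Opens} {W : X.Opens} (hW : W ≤ U) {M : X.Modules} {m : ℕ}
    {e : Fin m → Γ(M, U)} (he : IsFrame M U e) :
    Nonempty (M.restrict W.ι ≅ FlatMod.freeMod (↑W) m) :=
  FinCov.exists_iso_of_frame (TensorGen.isFrame_restrict he hW)

include hE h in
/-- `Λ^q E ≅ Hom(Λ^p E, Λ^n E)` for `E` of rank `n = p + q`. -/
theorem nonempty_iso_iHom (hrk : ∀ x : X, ∃ (U : X.Opens) (e : Fin n → Γ(E, U)), x ∈ U ∧ IsFrame E U e)
    [DCoh.HasSheafHom (wedge E p)] :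
    Nonempty (wedge E q ≅ iHom (wedge E p) (wedge E n)) := by
  obtain ⟨Φ, hΦ⟩ := exists_pairing E hE h
  let φ : wedge E q ⟶ iHom (wedge E p) (wedge E n) := curry Φ
  have hHom : FlatMod.IsFinLocFree (iHom (wedge E p) (wedge E n)) :=
    LocFreeHom.isFinLocFree_iHom (ExtPowX.isFinLocFree_wedge hE p) (ExtPowX.isFinLocFree_wedge hE n)
  haveI : (iHom (wedge E p) (wedge E n)).IsQuasicoherent := (Euler.isCoh_of_isFinLocFree hHom).1
  haveI := isQCoh_wedge E hE q
  haveI : ∀ U : X.Opens, DCoh.HasSheafHom ((Scheme.Modules.pullback U.ι).obj (wedge E p)) :=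
    fun U => LocFreeHom.hasSheafHom _
  choose U e hxU he using hrk
  have hcov : ∀ x : X, ∃ W : X.affineOpens, x ∈ W.1 ∧ W.1 ≤ U x := fun x => by
    obtain ⟨W, hW, hxW, hle⟩ := exists_isAffineOpen_mem_and_subset (U := U x) (x := x) (hxU x)
    exact ⟨⟨W, hW⟩, hxW, hle⟩
  choose W hxW hWU using hcov
  suffices IsIso φ from ⟨asIso φ⟩
  refine QCoh.isIso_of_bijective_on_cover φ (fun x : X => (W x).1)
    (top_le_iff.1 fun x _ => Opens.mem_iSup.2 ⟨x, hxW x⟩) (fun x => (W x).2) fun x => ?_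
  have heW := TensorGen.isFrame_restrict (he x) (hWU x)
  let N := iHom (wedge E p) (wedge E n)
  let Wx := (W x).1
  obtain ⟨ι₀⟩ := FinCov.exists_iso_of_frame (ExtPowX.isFrame_wedge heW p)
  obtain ⟨ι₁⟩ := FinCov.exists_iso_of_frame (ExtPowX.isFrame_wedge heW n)
  let P := Scheme.Modules.restrictFunctorIsoPullback Wx.ι
  haveI : DCoh.HasSheafHom (FlatMod.freeMod (↑Wx) (Fintype.card (Set.powersetCard (Fin n) p))) :=
    LocFreeHom.hasSheafHom _
  haveI := LocFreeHom.isIso_cmp Wx.ι (ExtPowX.isFinLocFree_wedge hE p) (wedge E n)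
  obtain ⟨ι₂⟩ := LocFreeHom.nonempty_iHom_free_free (X := (Wx : Scheme.{u}))
    (Fintype.card (Set.powersetCard (Fin n) p)) (Fintype.card (Set.powersetCard (Fin n) n))
  obtain ⟨f, hf⟩ := FinCov.exists_frame_of_iso
    (P.app N ≪≫ asIso (LocFreeHom.cmp Wx.ι (wedge E p) (wedge E n)) ≪≫
      LocFreeHom.iHomCongr ((P.app (wedge E p)).symm ≪≫ ι₀).symm ((P.app (wedge E n)).symm ≪≫ ι₁) ≪≫ ι₂)
  have hf' := TensorGen.isFrame_restrict hf (le_of_eq (Scheme.Opens.ι_image_top Wx).symm)
  let bN := hf'.basis Wx le_rfl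
  let bM := (ExtPowX.isFrame_wedge heW q).basis Wx le_rfl
  have hcard : Fintype.card (Set.powersetCard (Fin n) q) =
      Fintype.card (Set.powersetCard (Fin n) p) * Fintype.card (Set.powersetCard (Fin n) n) := by
    rw [card_powersetCard, card_powersetCard, card_powersetCard, Nat.choose_self, mul_one]
    exact Nat.choose_symm_of_eq_add (by omega)
  let ev : Γ(N, Wx) →ₗ[Γ(X, Wx)] Γ(wedge E p, Wx) →ₗ[Γ(X, Wx)] Γ(wedge E n, Wx) :=
    LinearMap.mk₂ Γ(X, Wx) (fun s a => (LocFreeHom.ev (wedge E p) (wedge E n)).app Wx (OX.tmulSec (wedge E p) N Wx a s))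
      (fun s s' a => (congrArg _ (OX.tmulSec_add_right (wedge E p) N Wx a s s')).trans (map_add _ _ _))
      (fun c s a => (congrArg _ (OX.tmulSec_smul_right (wedge E p) N Wx c a s)).trans
        (Scheme.Modules.Hom.app_smul _ c _))
      (fun s a a' => (congrArg _ (OX.tmulSec_add_left (wedge E p) N Wx a a' s)).trans (map_add _ _ _))
      (fun c s a => (congrArg _ (OX.tmulSec_smul_left (wedge E p) N Wx c a s)).trans
        (Scheme.Modules.Hom.app_smul _ c _))
  let φL : Γ(wedge E q, Wx) →ₗ[Γ(X, Wx)] Γ(N, Wx) :=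
    { toFun := fun b => φ.app Wx b
      map_add' := map_add (φ.app Wx).hom
      map_smul' := fun c b => Scheme.Modules.Hom.app_smul φ c b }
  have hcomp : Function.Bijective (ev.comp φL) := by
    have hsec : ev.comp φL = secPair E hE h (W x).2 := by
      refine LinearMap.ext fun b => LinearMap.ext fun a => ?_
      refine Eq.trans ?_ (hΦ (W x) a b)
      conv_rhs => rw [← LocFreeHom.uncurry_curry Φ]
      exact congrArg (fun z => (LocFreeHom.ev (wedge E p) (wedge E n)).app Wx z)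
        (tMap_right_tmulSec (wedge E p) φ Wx a b).symm
    rw [hsec]
    let b₀ := heW.basis Wx le_rfl
    have hb := bijective_pair (A := Γ(X, Wx)) b₀ h
    have : ⇑(secPair E hE h (W x).2 : Γ(wedge E q, Wx) →ₗ[Γ(X, Wx)] _) =
        ⇑(LinearEquiv.arrowCongr (etaE E hE p (W x).2) (etaE E hE n (W x).2)) ∘ ⇑(pair h) ∘
          ⇑(etaE E hE q (W x).2).symm := by
      funext b
      exact LinearMap.ext fun a => rfl
    rw [this]
    exact (LinearEquiv.bijective _).comp (hb.comp (LinearEquiv.bijective _))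
  let ρ : Γ(N, Wx) ≃ₗ[Γ(X, Wx)] Γ(wedge E q, Wx) :=
    (bN.reindex (finCongr hcard.symm)).equiv bM (Equiv.refl _)
  let back : Γ(N, Wx) →ₗ[Γ(X, Wx)] Γ(wedge E q, Wx) :=
    (LinearEquiv.ofBijective _ hcomp).symm.toLinearMap.comp ev
  have hback : ∀ b, back (φL b) = b := fun b => (LinearEquiv.ofBijective _ hcomp).symm_apply_apply b
  haveI : Module.Finite Γ(X, Wx) Γ(N, Wx) := Module.Finite.of_basis bN
  have hinj : Function.Injective back := by
    have hend : Function.Surjective (ρ.symm.toLinearMap.comp back) := fun z =>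
      ⟨φL (ρ z), by simp [hback]⟩
    exact Function.Injective.of_comp (f := ρ.symm)
      (OrzechProperty.injective_of_surjective_endomorphism _ hend)
  exact ⟨fun b b' hbb => (hback b).symm.trans ((congrArg back hbb).trans (hback b')),
    fun z => ⟨back z, hinj (hback (back z))⟩⟩

end GrothLib.WedgePair27
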