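import Groth.Agent.Lib.ExtPowX.SesAlg
import Mathlib.LinearAlgebra.ExteriorPower.Basis
import Mathlib.LinearAlgebra.ExteriorAlgebra.Basis

/-!
# The wedge pairing of a free module is perfect
-/

set_option autoImplicit false
set_option maxHeartbeats 800000

universe u v

open TensorProduct Set Set.powersetCard

noncomputable section

namespace GrothLib.WedgePair27

variable {A : Type u} [CommRing A] {M : Type v} [AddCommGroup M] [Module A M] {p q n : ℕ}

/-- The wedge pairing. -/
def pair (h : p + q = n) : ↥(⋀[A]^q M) →ₗ[A] ↥(⋀[A]^p M) →ₗ[A] ↥(⋀[A]^n M) :=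
  (TensorProduct.curry (ExtPowX.Ses.mu (LinearMap.id : M →ₗ[A] M) h)).flip

theorem coe_pair (h : p + q = n) (b : ↥(⋀[A]^q M)) (a : ↥(⋀[A]^p M)) :
    (pair h b a : ExteriorAlgebra A M) = (a : ExteriorAlgebra A M) * b := by
  show (ExtPowX.Ses.mu (LinearMap.id : M →ₗ[A] M) h (a ⊗ₜ b) : ExteriorAlgebra A M) = _
  rw [ExtPowX.Ses.coe_mu, show ExteriorAlgebra.map (LinearMap.id : M →ₗ[A] M) = AlgHom.id A _ from
    CliffordAlgebra.map_id _]
  rfl

theorem bijective_pair (b : Module.Basis (Fin n) A M) (h : p + q = n) :
    Function.Bijective (pair (M := M) (A := A) h) := by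
  classical
  haveI : Subsingleton (powersetCard (Fin n) n) := ⟨fun s t => by
    have h1 : ∀ r : powersetCard (Fin n) n, (r : Finset (Fin n)) = Finset.univ := fun r =>
      Finset.eq_univ_of_card _ (by rw [powersetCard.card_eq]; simp)
    exact Subtype.ext ((h1 s).trans (h1 t).symm)⟩
  let e₀ : powersetCard (Fin n) n := ⟨Finset.univ, by simp⟩
  let Bp := b.exteriorPower p
  let Bq := b.exteriorPower q
  let Bn := b.exteriorPower n
  let c : powersetCard (Fin n) p ≃ powersetCard (Fin n) q :=
    powersetCard.compl (show q + p = Fintype.card (Fin n) by simp; omega)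
  have hdis : ∀ s, Disjoint s.val (c s).val := fun s => by
    rw [show (c s).val = (s : Finset (Fin n))ᶜ from powersetCard.coe_compl]
    exact disjoint_compl_right
  let ε : powersetCard (Fin n) p → A := fun s => ((permOfDisjoint (hdis s)).sign : ℤ)
  have hε : ∀ s, ε s * ε s = 1 := fun s => by
    simp only [ε, ← Int.cast_mul]
    rw [← Units.val_mul, Int.units_mul_self, Units.val_one, Int.cast_one]
  have key : ∀ y s, pair h y (Bp s) = (ε s * Bq.repr y (c s)) • Bn e₀ := by
    intro y s
    refine Subtype.ext ?_
    rw [coe_pair]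
    conv_lhs => rw [← Bq.sum_repr y]
    simp only [Submodule.coe_sum, Finset.mul_sum, Submodule.coe_smul]
    rw [Finset.sum_eq_single (c s)]
    · rw [mul_smul_comm, mul_comm (ε s), mul_smul]
      refine congrArg _ ?_
      rw [exteriorPower.basis_apply, exteriorPower.basis_apply, exteriorPower.basis_apply,
        exteriorPower.ιMulti_family_apply_coe, exteriorPower.ιMulti_family_apply_coe,
        exteriorPower.ιMulti_family_apply_coe, ExteriorAlgebra.ιMulti_family_mul_of_disjoint _ _ _ _ (hdis s),
        Units.smul_def, ← Int.cast_smul_eq_zsmul A]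
      refine congrArg _ ?_
      subst h
      exact congrArg _ (Subsingleton.elim _ _)
    · intro t _ ht
      rw [mul_smul_comm]
      have hnd : ¬ Disjoint s.val t.val := fun hd => ht (Subtype.ext (by
        show t.val = (c s).val
        rw [show (c s).val = (s : Finset (Fin n))ᶜ from powersetCard.coe_compl]
        refine Finset.eq_of_subset_of_card_le (fun i hi => Finset.mem_compl.2 fun h' =>
          Finset.disjoint_left.1 hd h' hi) (le_of_eq ?_)
        rw [Finset.card_compl, powersetCard.card_eq, Fintype.card_fin, powersetCard.card_eq]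
        omega))
      rw [exteriorPower.basis_apply, exteriorPower.basis_apply, exteriorPower.ιMulti_family_apply_coe,
        exteriorPower.ιMulti_family_apply_coe, ExteriorAlgebra.ιMulti_family_mul_of_not_disjoint _ _ _ _ hnd,
        smul_zero]
    · exact fun h' => (h' (Finset.mem_univ _)).elim
  refine ⟨(injective_iff_map_eq_zero _).2 fun y hy => Bq.repr.injective (Finsupp.ext fun t => ?_), fun φ => ?_⟩
  · obtain ⟨s, rfl⟩ := c.surjective t
    have h1 := congrArg (fun x => Bn.repr x e₀) (key y s)
    rw [hy] at h1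
    simp only [LinearMap.zero_apply, map_zero, map_smul, Finsupp.coe_zero, Pi.zero_apply, Finsupp.smul_apply,
      Module.Basis.repr_self, Finsupp.single_eq_same, smul_eq_mul, mul_one] at h1
    have h2 := congrArg (ε s * ·) h1
    rw [mul_zero, ← mul_assoc, hε, one_mul] at h2
    simpa using h2.symm
  · refine ⟨Bq.equivFun.symm fun t => ε (c.symm t) * Bn.repr (φ (Bp (c.symm t))) e₀, Bp.ext fun s => ?_⟩
    rw [key]
    refine Bn.repr.injective (Finsupp.ext fun e => ?_)
    rw [Subsingleton.elim e e₀]
    simp only [map_smul, Finsupp.smul_apply, Module.Basis.repr_self, Finsupp.single_eq_same, smul_eq_mul, mul_one]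
    rw [show Bq.repr (Bq.equivFun.symm fun t => ε (c.symm t) * Bn.repr (φ (Bp (c.symm t))) e₀) (c s) =
      Bq.equivFun (Bq.equivFun.symm fun t => ε (c.symm t) * Bn.repr (φ (Bp (c.symm t))) e₀) (c s) from rfl,
      LinearEquiv.apply_symm_apply, Equiv.symm_apply_apply, ← mul_assoc, hε, one_mul]

end GrothLib.WedgePair27
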